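import Cfsg.Agent.OddOrder.PF8.Equivariance
import Cfsg.Agent.OddOrder.TypePBasic
import Cfsg.Agent.OddOrderChar.CoprimeCoset
import Mathlib.GroupTheory.SchurZassenhaus

/-!
# Peterfalvi section 8: the results of the local analysis that are used, and first consequences

`BG16Facts` records, in the form in which they are stated, the results of Bender-Glauberman
section 16 on which section 8 rests.
-/

set_option autoImplicit false
set_option linter.unusedSectionVars false

namespace CfsgLib.OddOrder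

open Cfsg
open Subgroup (centralizer normalizer)

universe u

/-- The facts from the local analysis used in Peterfalvi section 8. -/
structure BG16Facts (G : Type u) [Group G] : Prop where
  exists_kappa : ∀ M : Subgroup G, IsCoatom M →
    (∃ K : Subgroup G, IsPiHallOf (kappa M) K M) ∧
      ∀ K : Subgroup G, IsPiHallOf (kappa M) K M → IsCyclic K
  exists_decomp : ∀ M K : Subgroup G, IsCoatom M → IsCyclic K → IsPiHallOf (kappa M) K M →
    ∃ U : Subgroup G, IsSigmaDecomposition M K U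
  chain : ∀ M : Subgroup G, IsCoatom M →
    fittingHallOf M ≠ ⊥ ∧ fittingHallOf M ≤ sigmaCore M ∧ sigmaCore M ≤ ⁅M, M⁆ ∧ ⁅M, M⁆ < M
  typeI : ∀ M K U : Subgroup G, IsCoatom M → IsSigmaDecomposition M K U →
    (IsTypeI M ↔ (K = ⊥ ∧ U ≠ ⊥))
  typeII : ∀ M K U : Subgroup G, IsCoatom M → IsSigmaDecomposition M K U →
    (IsOfTypeII M ↔ (K ≠ ⊥ ∧ U ≠ ⊥))
  typeIII_IV : ∀ M K U : Subgroup G, IsCoatom M → IsSigmaDecomposition M K U →
    ((IsOfTypeIII M ∨ IsOfTypeIV M) ↔ (K ≠ ⊥ ∧ U = ⊥ ∧ fittingHallOf M ≠ sigmaCore M))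
  typeV : ∀ M K U : Subgroup G, IsCoatom M → IsSigmaDecomposition M K U →
    (IsOfTypeV M ↔ (K ≠ ⊥ ∧ U = ⊥ ∧ fittingHallOf M = sigmaCore M))
  sigma_conj : ∀ M N : Subgroup G, IsCoatom M → IsCoatom N → (sigma M ∩ sigma N).Nonempty →
    ∃ g : G, N = M.map (MulAut.conj g).toMonoidHom
  coreHall : ∀ M : Subgroup G, IsCoatom M →
    (∀ (p : ℕ), p.Prime → ∀ (P : Sylow p ↥(typeCore M)), (P : Subgroup ↥(typeCore M)) ≠ ⊥ →
        normalizer ((((P : Subgroup ↥(typeCore M)).map (typeCore M).subtype : Subgroup G)) : Set G) ≤ M) ∧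
      (Nat.card (fittingHallOf M)).Coprime (fittingHallOf M).index ∧
      (Nat.card (typeCore M)).Coprime (typeCore M).index
  complFacts : ∀ M U : Subgroup G, IsCoatom M →
    ((IsTypeI M ∧ IsComplIn (fittingHallOf M) U M) ∨
      (IsOfTypeII M ∧ IsComplIn (fittingHallOf M) U ⁅M, M⁆)) →
    ∀ X : Set G, X ⊆ (U : Set G) \ {1} → X.Nonempty → fittingHallOf M ⊓ centralizer X ≠ ⊥ →
      centralizer X ≤ M ∧ ∀ L : Subgroup G, IsCoatom L → centralizer X ≤ L → L = M
  theoremII : ∀ (M : Subgroup G) (X : Set G), IsCoatom M → (X = supportA M ∨ X = supportA0 M) →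
    (∀ x ∈ X, ∀ g : G, g * x * g⁻¹ ∈ X → ∃ m ∈ M, m * x * m⁻¹ = g * x * g⁻¹) ∧
      (∀ x ∈ X, ¬ centralizer ({x} : Set G) ≤ M → x ∈ typeA1 M ∧
        ∃! L : Subgroup G, IsCoatom L ∧ centralizer ({x} : Set G) ≤ L) ∧
      ∀ x ∈ X, ¬ centralizer ({x} : Set G) ≤ M → ∀ L : Subgroup G, IsCoatom L →
        centralizer ({x} : Set G) ≤ L →
        IsComplIn (fittingHallOf L) (M ⊓ L) L ∧
        centralizer ({x} : Set G) ≤ normalizer ((fittingHallOf L ⊓ centralizer ({x} : Set G) : Subgroup G) : Set G) ∧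
        IsComplIn (fittingHallOf L ⊓ centralizer ({x} : Set G)) (M ⊓ centralizer ({x} : Set G))
          (centralizer ({x} : Set G)) ∧
        (∀ y ∈ X, (Nat.card (fittingHallOf L)).Coprime (Nat.card ↥(M ⊓ centralizer ({y} : Set G)))) ∧
        (x ∈ supportA L ∧ x ∉ typeA1 L) ∧
        (IsTypeI L ∨ IsOfTypeII L)

variable {G : Type u} [Group G]

theorem comm_mem_centralizer_singleton {a x : G} : a ∈ centralizer ({x} : Set G) ↔ a * x = x * a :=
  Subgroup.mem_centralizer_singleton_iff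

/-- The derived subgroup is contained in the subgroup. -/
theorem derived_le_self (M : Subgroup G) : ⁅M, M⁆ ≤ M := by
  rw [Subgroup.commutator_le]
  intro a ha b hb
  exact M.mul_mem (M.mul_mem (M.mul_mem ha hb) (M.inv_mem ha)) (M.inv_mem hb)

theorem derived_conj_mem (M : Subgroup G) {m a : G} (hm : m ∈ M) (ha : a ∈ ⁅M, M⁆) :
    m * a * m⁻¹ ∈ ⁅M, M⁆ := by
  have h : (⁅M, M⁆).map (MulAut.conj m).toMonoidHom = ⁅M, M⁆ := by
    rw [Subgroup.map_commutator, map_conj_eq_self_of_mem hm]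
  rw [← h]
  exact ⟨a, ha, rfl⟩

theorem typeCore_le_self (M : Subgroup G) : typeCore M ≤ M := by
  unfold typeCore
  split_ifs
  · exact derived_le_self M
  · exact fittingHallOf_le M

theorem typeCore_conj_mem (M : Subgroup G) {m a : G} (hm : m ∈ M) (ha : a ∈ typeCore M) :
    m * a * m⁻¹ ∈ typeCore M := by
  have h := mem_typeA1_map (MulAut.conj m) M (a := a)
  by_cases ha1 : a = 1
  · simp [ha1]
  · have h2 := h.2 ⟨ha, ha1⟩
    rw [map_conj_eq_self_of_mem hm] at h2
    exact h2.1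

theorem fittingHallOf_le_core (M : Subgroup G) : fittingHallOf M ≤ typeCore M := by
  unfold typeCore
  split_ifs with h
  · rcases h with ⟨W₁, U, W₂, hP, -⟩ | ⟨W₁, U, W₂, hP, -⟩ <;>
    · refine le_trans ?_ hP.fitting_le
      rw [← hP.fitting_eq]
      exact le_sup_left
  · exact le_rfl

theorem typeA1_subset_self (M : Subgroup G) : typeA1 M ⊆ (M : Set G) :=
  fun _ ha => typeCore_le_self M ha.1

theorem typeA_subset_self (M : Subgroup G) : supportA M ⊆ (M : Set G) := by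
  intro a ha
  rw [supportA] at ha
  split_ifs at ha
  · exact ha.1
  · exact derived_le_self M ha.1

theorem typeA_ne_one (M : Subgroup G) {a : G} (ha : a ∈ supportA M) : a ≠ 1 := by
  rw [supportA] at ha
  split_ifs at ha <;> exact ha.2.1

theorem typeA_conj_mem (M : Subgroup G) {m a : G} (hm : m ∈ M) (ha : a ∈ supportA M) :
    m * a * m⁻¹ ∈ supportA M := by
  have h := (mem_typeA_map (MulAut.conj m) M (a := a)).2 ha
  rwa [map_conj_eq_self_of_mem hm] at h

/-- A non-identity power of an element of `A(M)` is in `A(M)`. -/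
theorem typeA_zpowers (M : Subgroup G) {a b : G} (hb : b ∈ supportA M) (ha : a ∈ Subgroup.zpowers b)
    (ha1 : a ≠ 1) : a ∈ supportA M := by
  obtain ⟨k, rfl⟩ := Subgroup.mem_zpowers_iff.1 ha
  rw [supportA] at hb ⊢
  split_ifs at hb ⊢ <;>
    obtain ⟨hbM, -, x, hx, hx1, hc⟩ := hb <;>
    exact ⟨Subgroup.zpow_mem _ hbM k, ha1, x, hx, hx1, Commute.zpow_left hc k⟩

namespace BG16Facts

variable [Finite G] (F : BG16Facts G) {M : Subgroup G}
include F

theorem exists_sigmaDecomposition (hM : IsCoatom M) :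
    ∃ K U : Subgroup G, IsSigmaDecomposition M K U := by
  obtain ⟨⟨K, hK⟩, hcyc⟩ := F.exists_kappa M hM
  obtain ⟨U, hU⟩ := F.exists_decomp M K hM (hcyc K hK) hK
  exact ⟨K, U, hU⟩

theorem not_III_IV_of_I_II (hM : IsCoatom M) (h : IsTypeI M ∨ IsOfTypeII M) :
    ¬ (IsOfTypeIII M ∨ IsOfTypeIV M) := by
  obtain ⟨K, U, hKU⟩ := F.exists_sigmaDecomposition hM
  intro h3
  obtain ⟨-, hU, -⟩ := (F.typeIII_IV M K U hM hKU).1 h3
  rcases h with h | h
  · exact ((F.typeI M K U hM hKU).1 h).2 hU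
  · exact ((F.typeII M K U hM hKU).1 h).2 hU

theorem core_eq (hM : IsCoatom M) (h : IsTypeI M ∨ IsOfTypeII M) : typeCore M = fittingHallOf M := by
  rw [typeCore, if_neg (F.not_III_IV_of_I_II hM h)]

theorem not_I_of_II (hM : IsCoatom M) (h : IsOfTypeII M) : ¬ IsTypeI M := by
  obtain ⟨K, U, hKU⟩ := F.exists_sigmaDecomposition hM
  exact fun hI => ((F.typeII M K U hM hKU).1 h).1 ((F.typeI M K U hM hKU).1 hI).1

theorem core_ne_bot (hM : IsCoatom M) : typeCore M ≠ ⊥ := fun h =>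
  (F.chain M hM).1 (le_bot_iff.1 (h ▸ fittingHallOf_le_core M))

theorem typeA1_subset_typeA (hM : IsCoatom M) : typeA1 M ⊆ supportA M := by
  rintro a ⟨ha, ha1⟩
  rw [supportA]
  split_ifs with hI
  · rw [SetLike.mem_coe, F.core_eq hM (Or.inl hI)] at ha
    exact ⟨fittingHallOf_le M ha, ha1, a, ha, ha1, rfl⟩
  · refine ⟨?_, ha1, a, ha, ha1, rfl⟩
    have hH : fittingHallOf M ≤ ⁅M, M⁆ := (F.chain M hM).2.1.trans (F.chain M hM).2.2.1
    unfold typeCore at ha
    split_ifs at ha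
    · exact ha
    · exact hH ha

theorem typeA1_nonempty (hM : IsCoatom M) : (typeA1 M).Nonempty := by
  obtain ⟨x, hx, hx1⟩ := (Subgroup.bot_or_exists_ne_one (typeCore M)).resolve_left (F.core_ne_bot hM)
  exact ⟨x, hx, hx1⟩

/-- A prime dividing `|M_s|` belongs to `σ(M)`. -/
theorem mem_sigma_of_dvd_core (hM : IsCoatom M) {p : ℕ} (hp : p.Prime)
    (hd : p ∣ Nat.card (typeCore M)) : p ∈ sigma M := by
  haveI := Fact.mk hp
  refine ⟨hp, hd.trans (Subgroup.card_dvd_of_le (typeCore_le_self M)), ?_⟩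
  obtain ⟨P⟩ : Nonempty (Sylow p (typeCore M)) := inferInstance
  have hP1 : (P : Subgroup (typeCore M)) ≠ ⊥ := P.ne_bot_of_dvd_card hd
  have hN := (F.coreHall M hM).1 p hp P hP1
  set Pg : Subgroup G := (P : Subgroup (typeCore M)).map (typeCore M).subtype with hPg
  have hle : Pg ≤ M := (Subgroup.map_subtype_le _).trans (typeCore_le_self M)
  have hcard : Nat.card (Pg.subgroupOf M) = p ^ (Nat.card M).factorization p := by
    rw [Nat.card_congr (Subgroup.subgroupOfEquivOfLe hle).toEquiv, hPg,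
      Subgroup.card_map_of_injective (typeCore M).subtype_injective, P.card_eq_multiplicity]
    congr 1
    have hmul : Nat.card M = Nat.card (typeCore M) * (typeCore M).relIndex M := by
      rw [← Nat.card_congr (Subgroup.subgroupOfEquivOfLe (typeCore_le_self M)).toEquiv]
      exact (Subgroup.card_mul_index _).symm
    have hndvd : ¬ p ∣ (typeCore M).relIndex M := fun h =>
      hp.not_dvd_one ((F.coreHall M hM).2.2.gcd_eq_one ▸
        Nat.dvd_gcd hd (h.trans (Subgroup.relIndex_dvd_index_of_le (typeCore_le_self M))))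
    rw [hmul, Nat.factorization_mul Nat.card_pos.ne' (fun h => hndvd (by rw [h]; exact dvd_zero p))]
    simp [Nat.factorization_eq_zero_of_not_dvd hndvd]
  refine ⟨Sylow.ofCard (Pg.subgroupOf M) hcard, ?_⟩
  rw [show ((Sylow.ofCard (Pg.subgroupOf M) hcard : Sylow p M) : Subgroup M) = Pg.subgroupOf M from rfl,
    Subgroup.map_subgroupOf_eq_of_le hle]
  exact hN

/-- A prime dividing two of the subgroups `M_s`, `N_s` makes the maximal subgroups conjugate. -/
theorem conj_of_dvd_cores {N : Subgroup G} (hM : IsCoatom M) (hN : IsCoatom N) {p : ℕ} (hp : p.Prime)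
    (hdM : p ∣ Nat.card (typeCore M)) (hdN : p ∣ Nat.card (typeCore N)) :
    ∃ g : G, N = M.map (MulAut.conj g).toMonoidHom :=
  F.sigma_conj M N hM hN ⟨p, F.mem_sigma_of_dvd_core hM hp hdM, F.mem_sigma_of_dvd_core hN hp hdN⟩

theorem coprime_cores {N : Subgroup G} (hM : IsCoatom M) (hN : IsCoatom N)
    (hnc : ∀ g : G, N ≠ M.map (MulAut.conj g).toMonoidHom) :
    (Nat.card (typeCore M)).Coprime (Nat.card (typeCore N)) :=
  Nat.coprime_of_dvd fun _ hp hdM hdN =>
    let ⟨g, hg⟩ := F.conj_of_dvd_cores hM hN hp hdM hdN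
    hnc g hg

/-- An element of `A(M)` of order prime to `|M_s|` has `M` as the only maximal subgroup over its
centraliser, and `M` is of Type I or II. -/
theorem typeA_coprime_unique (hM : IsCoatom M) {x : G} (hx : x ∈ supportA M)
    (hcop : (orderOf x).Coprime (Nat.card (typeCore M))) :
    centralizer ({x} : Set G) ≤ M ∧
      ∀ L : Subgroup G, IsCoatom L → centralizer ({x} : Set G) ≤ L → L = M := by
  have hx1 : x ≠ 1 := typeA_ne_one M hx
  have hnot : x ∉ typeCore M := fun h => hx1 (orderOf_eq_one_iff.1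
    (Nat.eq_one_of_dvd_coprimes hcop dvd_rfl (Subgroup.orderOf_dvd_natCard _ h)))
  obtain ⟨K, U₀, hKU⟩ := F.exists_sigmaDecomposition hM
  have htype : IsTypeI M ∨ IsOfTypeII M := by
    by_contra hne
    push Not at hne
    have hK : K ≠ ⊥ := by
      intro hK
      by_cases hU : U₀ = ⊥
      · obtain ⟨-, -, hσ, hlt⟩ := F.chain M hM
        refine hlt.not_ge (le_trans (fun m hm => ?_) hσ)
        obtain ⟨a, ha, b, hb, rfl⟩ := hKU.compl.2.2.2 m hm
        rw [hU, Subgroup.mem_bot] at ha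
        rw [hK, bot_sup_eq] at hb
        simpa [ha] using hb
      · exact hne.1 ((F.typeI M K U₀ hM hKU).2 ⟨hK, hU⟩)
    have hU : U₀ = ⊥ := by
      by_contra hU
      exact hne.2 ((F.typeII M K U₀ hM hKU).2 ⟨hK, hU⟩)
    rw [supportA, if_neg hne.1] at hx
    by_cases hσ : fittingHallOf M = sigmaCore M
    · obtain ⟨W₁, U, W₂, hP, hU', -⟩ := (F.typeV M K U₀ hM hKU).2 ⟨hK, hU, hσ⟩
      obtain ⟨a, ha, b, hb, hab⟩ := hP.U_compl.2.2.2 x hx.1
      rw [hU', Subgroup.mem_bot] at hb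
      rw [hb, mul_one] at hab
      exact hnot (hab ▸ fittingHallOf_le_core M ha)
    · have h34 := (F.typeIII_IV M K U₀ hM hKU).2 ⟨hK, hU, hσ⟩
      refine hnot ?_
      rw [typeCore, if_pos h34]
      exact hx.1
  set H := fittingHallOf M with hHdef
  have hcore : typeCore M = H := F.core_eq hM htype
  rw [hcore] at hcop
  have hHle : H ≤ ⁅M, M⁆ := (F.chain M hM).2.1.trans (F.chain M hM).2.2.1
  obtain ⟨X, hXM, hHX, hxX, hcent, hor⟩ : ∃ X : Subgroup G, X ≤ M ∧ H ≤ X ∧ x ∈ X ∧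
      (∃ y ∈ H, y ≠ 1 ∧ x * y = y * x) ∧
      ((IsTypeI M ∧ X = M) ∨ (IsOfTypeII M ∧ X = ⁅M, M⁆)) := by
    rcases htype with hI | hII
    · rw [supportA, if_pos hI] at hx
      exact ⟨M, le_rfl, fittingHallOf_le M, hx.1, hx.2.2, Or.inl ⟨hI, rfl⟩⟩
    · rw [supportA, if_neg (F.not_I_of_II hM hII), hcore] at hx
      exact ⟨⁅M, M⁆, derived_le_self M, hHle, hx.1, hx.2.2, Or.inr ⟨hII, rfl⟩⟩
  -- a complement of `H` in `X` containing `x`
  haveI : (H.subgroupOf X).Normal :=
    (Subgroup.normal_subgroupOf_iff_le_normalizer hHX).2 (hXM.trans (le_normalizer_fittingHallOf M))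
  have hHcard : Nat.card (H.subgroupOf X) = Nat.card H :=
    Nat.card_congr (Subgroup.subgroupOfEquivOfLe hHX).toEquiv
  have hHall : (Nat.card (H.subgroupOf X)).Coprime (H.subgroupOf X).index := by
    rw [hHcard]
    exact (F.coreHall M hM).2.1.coprime_dvd_right (Subgroup.relIndex_dvd_index_of_le hHX)
  obtain ⟨V, hV⟩ := Subgroup.exists_right_complement'_of_coprime hHall
  obtain ⟨a, ha, v, hv, hav⟩ := Set.mem_mul.1 (hV.mul_eq.symm ▸ Set.mem_univ (⟨x, hxX⟩ : X))
  have hvcop : (orderOf v).Coprime (Nat.card (H.subgroupOf X)) :=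
    (Nat.Coprime.coprime_dvd_right (by rw [hV.symm.index_eq_card]; exact Subgroup.orderOf_dvd_natCard V hv) hHall).symm
  obtain ⟨z, hz, c, hc, hcv, hzc⟩ := CfsgLib.OddOrderChar.exists_conj_coset_fixed (H.subgroupOf X) v
    (by rw [Subgroup.normalizer_eq_top]; exact Subgroup.mem_top v) hvcop a ha
  rw [hav] at hzc
  have hc1 : c = 1 := by
    have hxord : orderOf (⟨x, hxX⟩ : X) = orderOf x := (Subgroup.orderOf_coe _).symm
    have h2 : orderOf (c * v) = orderOf x := by
      rw [← hzc, ← hxord]; exact MulEquiv.orderOf_eq (MulAut.conj z) _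
    have hco : (orderOf c).Coprime (orderOf v) :=
      (hvcop.coprime_dvd_right (Subgroup.orderOf_dvd_natCard _ hc)).symm
    rw [(show Commute c v from hcv).orderOf_mul_eq_mul_orderOf_of_coprime hco] at h2
    exact orderOf_eq_one_iff.1 (Nat.eq_one_of_dvd_coprimes hcop ⟨orderOf v, h2.symm⟩
      (hHcard ▸ Subgroup.orderOf_dvd_natCard _ hc))
  rw [hc1, one_mul] at hzc
  set U : Subgroup G := (V.map (MulAut.conj z⁻¹).toMonoidHom).map X.subtype with hUdef
  have hxU : x ∈ U := by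
    refine ⟨⟨x, hxX⟩, ⟨v, hv, ?_⟩, rfl⟩
    rw [← hzc]; simp [mul_assoc]
  have hcompl : IsComplIn H U X := by
    refine ⟨hHX, Subgroup.map_subtype_le _, ?_, ?_⟩
    · refine (Subgroup.eq_bot_iff_forall _).2 ?_
      rintro g ⟨hgH, w, ⟨t, ht, rfl⟩, rfl⟩
      have ht' : t ∈ H.subgroupOf X := by
        have := (inferInstance : (H.subgroupOf X).Normal).conj_mem _
          (show z⁻¹ * t * z⁻¹⁻¹ ∈ H.subgroupOf X from hgH) z
        simpa [mul_assoc] using this
      have : t = 1 := Subgroup.disjoint_def.1 hV.disjoint ht' ht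
      simp [this]
    · intro m hm
      obtain ⟨h, hh, t, ht, hht⟩ := Set.mem_mul.1 (hV.mul_eq.symm ▸
        Set.mem_univ (z * (⟨m, hm⟩ : X) * z⁻¹))
      refine ⟨((z⁻¹ * h * z⁻¹⁻¹ : X) : G), ?_, _, ⟨_, ⟨t, ht, rfl⟩, rfl⟩, ?_⟩
      · exact Subgroup.mem_subgroupOf.1
          ((inferInstance : (H.subgroupOf X).Normal).conj_mem h hh z⁻¹)
      · have : (⟨m, hm⟩ : X) = z⁻¹ * h * z⁻¹⁻¹ * (z⁻¹ * t * z⁻¹⁻¹) := by
          calc (⟨m, hm⟩ : X) = z⁻¹ * (z * ⟨m, hm⟩ * z⁻¹) * z := by group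
            _ = z⁻¹ * (h * t) * z := by rw [hht]
            _ = _ := by group
        simpa using congrArg Subtype.val this
  obtain ⟨y, hy, hy1, hxy⟩ := hcent
  refine F.complFacts M U hM ?_ {x} (by simpa using ⟨hxU, hx1⟩) (Set.singleton_nonempty x) ?_
  · rcases hor with ⟨h, rfl⟩ | ⟨h, rfl⟩
    · exact Or.inl ⟨h, hcompl⟩
    · exact Or.inr ⟨h, hcompl⟩
  · intro hbot
    exact hy1 ((Subgroup.eq_bot_iff_forall _).1 hbot y ⟨hy, comm_mem_centralizer_singleton.2 hxy.symm⟩)

end BG16Facts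

end CfsgLib.OddOrder
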