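import Cfsg.Prelude.Def_OddOrderLocal
import Cfsg.Agent.OddOrder.LocalTypes
import Cfsg.Agent.OddOrder.Setup
import Mathlib.GroupTheory.QuotientGroup.Basic

/-!
# Invariance of the types of maximal subgroups under automorphisms

`M_F`, `F(M)`, the types I-IV, `M_s` and `A(M)` commute with an automorphism of the ambient group.
-/

set_option autoImplicit false
set_option linter.unusedSectionVars false

namespace CfsgLib.OddOrder

open Cfsg
open Subgroup (map map_map mem_map_equiv centralizer normalizer)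

variable {A B : Type*} [Group A] [Group B] (e : A ≃* B)

theorem equiv_map_sSup {P : Subgroup A → Prop} {Q : Subgroup B → Prop}
    (h : ∀ N : Subgroup A, P N ↔ Q (N.map e.toMonoidHom)) :
    (sSup {N | P N}).map e.toMonoidHom = sSup {N | Q N} := by
  refine le_antisymm ?_ ?_
  · rw [Subgroup.map_le_iff_le_comap]
    exact sSup_le fun N hN => Subgroup.map_le_iff_le_comap.1 (le_sSup ((h N).1 hN))
  · refine sSup_le fun N hN => ?_
    have hback : (N.map e.symm.toMonoidHom).map e.toMonoidHom = N := by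
      ext x; simp
    rw [← hback]
    exact Subgroup.map_mono (le_sSup ((h _).2 (by rwa [hback])))

theorem equiv_map_normal_iff (N : Subgroup A) : (N.map e.toMonoidHom).Normal ↔ N.Normal := by
  rw [← Subgroup.normalizer_eq_top_iff, ← Subgroup.normalizer_eq_top_iff,
    ← Subgroup.map_equiv_normalizer_eq N e,
    ← Subgroup.map_top_of_surjective e.toMonoidHom e.surjective]
  exact (Subgroup.map_injective e.injective).eq_iff

theorem equiv_map_card (N : Subgroup A) : Nat.card (N.map e.toMonoidHom) = Nat.card N :=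
  Subgroup.card_map_of_injective e.injective

theorem equiv_map_nilpotent_iff (N : Subgroup A) :
    Group.IsNilpotent (N.map e.toMonoidHom) ↔ Group.IsNilpotent N :=
  ⟨fun _ => Group.nilpotent_of_mulEquiv (N.equivMapOfInjective e.toMonoidHom e.injective).symm,
    fun _ => Group.nilpotent_of_mulEquiv (N.equivMapOfInjective e.toMonoidHom e.injective)⟩

theorem equiv_map_index (N : Subgroup A) : (N.map e.toMonoidHom).index = N.index :=
  Subgroup.index_map_equiv N e

theorem map_fittingHall : (fittingHall A).map e.toMonoidHom = fittingHall B :=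
  equiv_map_sSup e fun N => by
    rw [equiv_map_normal_iff, equiv_map_nilpotent_iff, equiv_map_card, equiv_map_index]

theorem map_fittingSubgroup : (fittingSubgroup A).map e.toMonoidHom = fittingSubgroup B :=
  equiv_map_sSup e fun N => by rw [equiv_map_normal_iff, equiv_map_nilpotent_iff]

theorem map_pPrimeCore (p : ℕ) : (pPrimeCore p A).map e.toMonoidHom = pPrimeCore p B :=
  equiv_map_sSup e fun N => by rw [equiv_map_normal_iff, equiv_map_card]

theorem equiv_map_isMulCommutative {N : Subgroup A} (h : IsMulCommutative N) :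
    IsMulCommutative (N.map e.toMonoidHom) := by
  refine ⟨⟨?_⟩⟩
  rintro ⟨_, a, ha, rfl⟩ ⟨_, b, hb, rfl⟩
  have h2 := congrArg (fun z : N => e (z : A)) (mul_comm' (⟨a, ha⟩ : N) ⟨b, hb⟩)
  refine Subtype.ext ?_
  change e a * e b = e b * e a
  simpa using h2

theorem equiv_map_isCyclic {N : Subgroup A} (h : IsCyclic N) : IsCyclic (N.map e.toMonoidHom) :=
  isCyclic_of_surjective _ (N.equivMapOfInjective e.toMonoidHom e.injective).surjective

theorem equiv_map_eq_bot {N : Subgroup A} : N.map e.toMonoidHom = ⊥ ↔ N = ⊥ :=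
  Subgroup.map_eq_bot_iff_of_injective N e.injective

theorem equiv_map_centralizer_singleton (x : A) :
    (centralizer ({x} : Set A)).map e.toMonoidHom = centralizer ({e x} : Set B) := by
  ext y
  rw [mem_map_equiv, Subgroup.mem_centralizer_singleton_iff, Subgroup.mem_centralizer_singleton_iff]
  refine ⟨fun h => ?_, fun h => e.injective (by simpa using h)⟩
  simpa using congrArg e h

include e in
theorem typeF_map (h : IsOfTypeF A) : IsOfTypeF B := by
  obtain ⟨hsolv, hodd, h1, h2, U, hU, hc, ⟨U₁, hU₁, hn₁, hab, hC₁⟩, U₀, hU₀, hexp, hfpf⟩ := h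
  have := hsolv
  have hH := map_fittingHall e
  refine ⟨Group.isSolvable_of_surjective (f := e.toMonoidHom) e.surjective,
    Nat.card_congr e.toEquiv ▸ hodd, ?_, ?_, U.map e.toMonoidHom, ?_, ?_,
    ⟨U₁.map e.toMonoidHom, Subgroup.map_mono hU₁, ?_, equiv_map_isMulCommutative e hab, ?_⟩,
    U₀.map e.toMonoidHom, Subgroup.map_mono hU₀, ?_, ?_⟩
  · rw [← hH, ne_eq, equiv_map_eq_bot]; exact h1
  · rw [← hH, ← Subgroup.map_top_of_surjective e.toMonoidHom e.surjective, ne_eq,
      (Subgroup.map_injective e.injective).eq_iff]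
    exact h2
  · rw [ne_eq, equiv_map_eq_bot]; exact hU
  · rw [← hH]
    refine Subgroup.isComplement'_of_disjoint_and_mul_eq_univ ?_ ?_
    · rw [disjoint_iff, ← Subgroup.map_inf _ _ _ e.injective, equiv_map_eq_bot, ← disjoint_iff]
      exact hc.disjoint
    · refine Set.eq_univ_of_forall fun y => ?_
      obtain ⟨a, ha, b, hb, hab'⟩ := Set.mem_mul.1 ((hc.mul_eq).symm ▸ Set.mem_univ (e.symm y))
      exact Set.mem_mul.2 ⟨e a, ⟨a, ha, rfl⟩, e b, ⟨b, hb, rfl⟩, by rw [← map_mul, hab']; simp⟩
  · rw [← Subgroup.map_equiv_normalizer_eq U₁ e]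
    exact Subgroup.map_mono hn₁
  · intro y hy hy1
    rw [← hH] at hy
    obtain ⟨x, hx, rfl⟩ := hy
    change U.map e.toMonoidHom ⊓ centralizer ({e x} : Set B) ≤ _
    rw [← equiv_map_centralizer_singleton, ← Subgroup.map_inf _ _ _ e.injective]
    exact Subgroup.map_mono (hC₁ x hx fun h => hy1 (by simp [h]))
  · rw [Monoid.exponent_eq_of_mulEquiv (U₀.equivMapOfInjective e.toMonoidHom e.injective).symm,
      Monoid.exponent_eq_of_mulEquiv (U.equivMapOfInjective e.toMonoidHom e.injective).symm, hexp]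
  · rintro _ ⟨u, hu, rfl⟩ hu1 y hy hc
    rw [← hH] at hy
    obtain ⟨x, hx, rfl⟩ := hy
    rw [hfpf u hu (fun h => hu1 (by simp [h])) x hx (e.injective (by simpa using hc)), map_one]

section Ambient

variable {G : Type*} [Group G] (α : G ≃* G)

/-- The restriction of an automorphism to a subgroup. -/
noncomputable def subMap (M : Subgroup G) : M ≃* M.map α.toMonoidHom :=
  M.equivMapOfInjective α.toMonoidHom α.injective

theorem map_subgroupMap_aux (M : Subgroup G) (N : Subgroup M) :
    (N.map (subMap α M).toMonoidHom).map (M.map α.toMonoidHom).subtype =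
      (N.map M.subtype).map α.toMonoidHom := by
  rw [map_map, map_map]
  rfl

theorem fittingHallOf_map (M : Subgroup G) :
    fittingHallOf (M.map α.toMonoidHom) = (fittingHallOf M).map α.toMonoidHom := by
  rw [fittingHallOf, fittingHallOf, ← map_subgroupMap_aux α, map_fittingHall (subMap α M)]

theorem fittingOf_map (M : Subgroup G) :
    fittingOf (M.map α.toMonoidHom) = (fittingOf M).map α.toMonoidHom := by
  rw [fittingOf, fittingOf, ← map_subgroupMap_aux α, map_fittingSubgroup (subMap α M)]

theorem commutator_map (M : Subgroup G) :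
    ⁅M.map α.toMonoidHom, M.map α.toMonoidHom⁆ = (⁅M, M⁆).map α.toMonoidHom :=
  (Subgroup.map_commutator M M α.toMonoidHom).symm

theorem normalizer_image (X : Set G) :
    normalizer (α '' X) = (normalizer X).map α.toMonoidHom := by
  ext g
  rw [mem_map_equiv]
  change (∀ y, y ∈ α '' X ↔ g * y * g⁻¹ ∈ α '' X) ↔ ∀ x, x ∈ X ↔ α.symm g * x * (α.symm g)⁻¹ ∈ X
  constructor
  · intro h x
    have := h (α x)
    simp only [Set.mem_image] at this
    constructor
    · intro hx
      obtain ⟨y, hy, hye⟩ := this.1 ⟨x, hx, rfl⟩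
      rwa [show α.symm g * x * (α.symm g)⁻¹ = y from α.injective (by simp [hye])]
    · intro hx
      obtain ⟨y, hy, hye⟩ := this.2 ⟨_, hx, by simp⟩
      rwa [← α.injective hye]
  · intro h y
    constructor
    · rintro ⟨x, hx, rfl⟩
      exact ⟨_, (h x).1 hx, by simp⟩
    · rintro ⟨x, hx, hxe⟩
      refine ⟨α.symm y, (h _).2 ?_, by simp⟩
      rwa [show α.symm g * α.symm y * (α.symm g)⁻¹ = x from α.injective (by simp [hxe])]

theorem tiSubset_image {X : Set G} (h : IsTISubset X) : IsTISubset (α '' X) := by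
  rintro g hg _ ⟨x, hx, rfl⟩ ⟨y, hy, hye⟩
  rw [normalizer_image, mem_map_equiv] at hg
  have h1 : α.symm g * x * (α.symm g)⁻¹ = y := α.injective (by simp [hye])
  rw [h _ hg x hx (h1 ▸ hy), map_one]

theorem tiSubset_map {H : Subgroup G} (h : IsTISubset (H : Set G)) :
    IsTISubset ((H.map α.toMonoidHom : Subgroup G) : Set G) :=
  tiSubset_image α h

theorem rankLE_map {k : ℕ} (H : Subgroup G) (h : RankLE k H) :
    RankLE k (H.map α.toMonoidHom) := by
  intro p hp C hC hCp
  have := h p hp (C.map (subMap α H).symm.toMonoidHom)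
    (equiv_map_isMulCommutative (subMap α H).symm hC) (by
      rintro _ ⟨c, hc, rfl⟩
      exact (map_pow (subMap α H).symm.toMonoidHom c p).symm.trans ((congrArg _ (hCp c hc)).trans (map_one _)))
  rwa [equiv_map_card (subMap α H).symm] at this

theorem map_map_symm (M : Subgroup G) :
    (M.map α.toMonoidHom).map α.symm.toMonoidHom = M := by
  ext x; simp

theorem selfNormalizingCyclic_map {W₁ W₂ : Subgroup G} (h : IsSelfNormalizingCyclic W₁ W₂) :
    IsSelfNormalizingCyclic (W₁.map α.toMonoidHom) (W₂.map α.toMonoidHom) := by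
  obtain ⟨h1, h2, h3, h4, h5, h6⟩ := h
  refine ⟨fun h => h1 ((equiv_map_eq_bot α).1 h), fun h => h2 ((equiv_map_eq_bot α).1 h), ?_, ?_, ?_, ?_⟩
  · rw [← Subgroup.map_inf _ _ _ α.injective, h3, Subgroup.map_bot]
  · rintro _ ⟨a, ha, rfl⟩ _ ⟨b, hb, rfl⟩
    rw [← map_mul, h4 a ha b hb, map_mul]
  · rw [← Subgroup.map_sup]
    exact equiv_map_isCyclic α h5
  · intro X hX hne
    have hX' : X = α '' (α.symm '' X) := by ext x; simp
    rw [hX', normalizer_image, h6 (α.symm '' X) ?_ (hne.image _), Subgroup.map_sup]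
    rintro _ ⟨x, hx, rfl⟩
    have := hX hx
    rw [← Subgroup.map_sup] at this
    simpa only [Set.mem_sdiff, Set.mem_union, SetLike.mem_coe, mem_map_equiv] using this

theorem complIn_map {P Q M : Subgroup G} (h : IsComplIn P Q M) :
    IsComplIn (P.map α.toMonoidHom) (Q.map α.toMonoidHom) (M.map α.toMonoidHom) := by
  refine ⟨Subgroup.map_mono h.1, Subgroup.map_mono h.2.1, ?_, ?_⟩
  · rw [← Subgroup.map_inf _ _ _ α.injective, h.2.2.1, Subgroup.map_bot]
  · rintro _ ⟨m, hm, rfl⟩
    obtain ⟨a, ha, b, hb, rfl⟩ := h.2.2.2 m hm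
    exact ⟨α a, ⟨a, ha, rfl⟩, α b, ⟨b, hb, rfl⟩, map_mul α a b⟩

theorem typePWith_map {M W₁ U W₂ : Subgroup G} (h : IsTypePWith M W₁ U W₂) :
    IsTypePWith (M.map α.toMonoidHom) (W₁.map α.toMonoidHom) (U.map α.toMonoidHom)
      (W₂.map α.toMonoidHom) := by
  have hcc : ∀ S : Subgroup G, (centralizer (S : Set G)).map α.toMonoidHom =
      centralizer ((S.map α.toMonoidHom : Subgroup G) : Set G) := by
    intro S
    ext g
    simp only [mem_map_equiv, Subgroup.mem_centralizer_iff, SetLike.mem_coe]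
    refine ⟨fun hg y hy => ?_, fun hg y hy => ?_⟩
    · have := congrArg α (hg (α.symm y) hy)
      simpa using this
    · exact α.injective (by simpa using hg (α y) (by simpa using hy))
  constructor
  · exact fun hb => h.W₁_ne ((equiv_map_eq_bot α).1 hb)
  · exact equiv_map_isCyclic α h.W₁_cyclic
  · rw [equiv_map_card, Subgroup.relIndex_map_map_of_injective _ _ α.injective]
    exact h.W₁_hall
  · rw [commutator_map]; exact complIn_map α h.W₁_compl
  · exact (equiv_map_nilpotent_iff α U).2 h.U_nilpotent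
  · rw [← Subgroup.map_equiv_normalizer_eq U α]; exact Subgroup.map_mono h.U_normal
  · rw [fittingHallOf_map, commutator_map]; exact complIn_map α h.U_compl
  · rw [fittingHallOf_map]
    intro hc
    apply h.H_not_cyclic
    have := equiv_map_isCyclic α.symm hc
    rwa [map_map_symm] at this
  · rw [fittingHallOf_map, commutator_map, commutator_map, ← hcc,
      ← Subgroup.map_inf _ _ _ α.injective, ← Subgroup.map_sup]
    exact Subgroup.map_mono h.derived_two_le
  · rw [fittingHallOf_map, fittingOf_map, ← hcc, ← Subgroup.map_inf _ _ _ α.injective,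
      ← Subgroup.map_sup, h.fitting_eq]
  · rw [fittingOf_map, commutator_map]; exact Subgroup.map_mono h.fitting_le
  · rw [fittingHallOf_map, commutator_map, commutator_map, ← Subgroup.map_inf _ _ _ α.injective]
    exact Subgroup.map_mono h.W₂_le
  · rintro _ ⟨x, hx, rfl⟩ hx1
    change ⁅_, _⁆ ⊓ centralizer ({α x} : Set G) = _
    rw [commutator_map, ← equiv_map_centralizer_singleton, ← Subgroup.map_inf _ _ _ α.injective,
      h.W₂_centralizer x hx fun hh => hx1 (by simp [hh])]
  · exact selfNormalizingCyclic_map α h.selfNormalizing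

theorem normalizer_map_le_iff (U M : Subgroup G) :
    normalizer ((U.map α.toMonoidHom : Subgroup G) : Set G) ≤ M.map α.toMonoidHom ↔
      normalizer (U : Set G) ≤ M := by
  rw [← Subgroup.map_equiv_normalizer_eq U α]
  exact Subgroup.map_le_map_iff_of_injective α.injective

theorem typeI_map {M : Subgroup G} (h : IsTypeI M) : IsTypeI (M.map α.toMonoidHom) := by
  obtain ⟨hF, hor⟩ := h
  refine ⟨typeF_map (subMap α M) hF, ?_⟩
  rcases hor with hti | ⟨hab, hr2, hr1⟩ | ⟨hexp, p, hp, hpd, hcyc⟩
  · exact Or.inl (by rw [fittingHallOf_map]; exact tiSubset_map α hti)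
  · refine Or.inr (Or.inl ?_)
    rw [fittingHallOf_map]
    refine ⟨equiv_map_isMulCommutative α hab, rankLE_map α _ hr2, fun hc => hr1 ?_⟩
    have := rankLE_map α.symm _ hc
    rwa [map_map_symm] at this
  · refine Or.inr (Or.inr ?_)
    rw [fittingHallOf_map]
    refine ⟨fun q hq hqd => ?_, p, hp, by rwa [equiv_map_card], ?_⟩
    · rw [equiv_map_card] at hqd
      rw [← Monoid.exponent_eq_of_mulEquiv (QuotientGroup.congr (fittingHall M) (fittingHall _)
        (subMap α M) (map_fittingHall (subMap α M)))]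
      exact hexp q hq hqd
    · rw [← map_pPrimeCore (subMap α (fittingHallOf M))]
      exact equiv_map_isCyclic _ hcyc

theorem typeII_map {M : Subgroup G} (h : IsOfTypeII M) : IsOfTypeII (M.map α.toMonoidHom) := by
  obtain ⟨W₁, U, W₂, hP, hU, hp, hti, hab, hn, hF, hH⟩ := h
  refine ⟨W₁.map α.toMonoidHom, U.map α.toMonoidHom, W₂.map α.toMonoidHom, typePWith_map α hP,
    fun hb => hU ((equiv_map_eq_bot α).1 hb), by rwa [equiv_map_card], ?_,
    equiv_map_isMulCommutative α hab, fun hb => hn ((normalizer_map_le_iff α U M).1 hb), ?_, ?_⟩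
  · rw [fittingOf_map]; exact tiSubset_map α hti
  · exact typeF_map ((subMap α ⁅M, M⁆).trans (MulEquiv.subgroupCongr (commutator_map α M).symm)) hF
  · rw [commutator_map, fittingHallOf_map, fittingHallOf_map, hH]

theorem typeIII_map {M : Subgroup G} (h : IsOfTypeIII M) : IsOfTypeIII (M.map α.toMonoidHom) := by
  obtain ⟨W₁, U, W₂, hP, hU, hp, hti, hab, hn⟩ := h
  refine ⟨W₁.map α.toMonoidHom, U.map α.toMonoidHom, W₂.map α.toMonoidHom, typePWith_map α hP,
    fun hb => hU ((equiv_map_eq_bot α).1 hb), by rwa [equiv_map_card], ?_,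
    equiv_map_isMulCommutative α hab, (normalizer_map_le_iff α U M).2 hn⟩
  rw [fittingOf_map]; exact tiSubset_map α hti

theorem typeIV_map {M : Subgroup G} (h : IsOfTypeIV M) : IsOfTypeIV (M.map α.toMonoidHom) := by
  obtain ⟨W₁, U, W₂, hP, hU, hp, hti, hab, hn⟩ := h
  refine ⟨W₁.map α.toMonoidHom, U.map α.toMonoidHom, W₂.map α.toMonoidHom, typePWith_map α hP,
    fun hb => hU ((equiv_map_eq_bot α).1 hb), by rwa [equiv_map_card], ?_, fun hc => hab ?_,
    (normalizer_map_le_iff α U M).2 hn⟩
  · rw [fittingOf_map]; exact tiSubset_map α hti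
  · have := equiv_map_isMulCommutative α.symm hc
    rwa [map_map_symm] at this

theorem isOfTypeI_map_iff (M : Subgroup G) : IsTypeI (M.map α.toMonoidHom) ↔ IsTypeI M :=
  ⟨fun h => by have := typeI_map α.symm h; rwa [map_map_symm] at this, typeI_map α⟩

theorem typeCore_map (M : Subgroup G) :
    typeCore (M.map α.toMonoidHom) = (typeCore M).map α.toMonoidHom := by
  by_cases h : IsOfTypeIII M ∨ IsOfTypeIV M
  · rw [typeCore, typeCore, if_pos h, if_pos (h.imp (typeIII_map α) (typeIV_map α)), commutator_map]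
  · rw [typeCore, typeCore, if_neg h, if_neg fun hc => h ?_, fittingHallOf_map]
    have h3 := hc.imp (typeIII_map α.symm) (typeIV_map α.symm)
    rwa [map_map_symm] at h3

theorem mem_typeA1_map (M : Subgroup G) {a : G} : α a ∈ typeA1 (M.map α.toMonoidHom) ↔ a ∈ typeA1 M := by
  simp only [typeA1, typeCore_map, Set.mem_sdiff, SetLike.mem_coe, Set.mem_singleton_iff, mem_map_equiv,
    MulEquiv.symm_apply_apply, map_eq_one_iff α α.injective]

theorem mem_typeA_map (M : Subgroup G) {a : G} : α a ∈ supportA (M.map α.toMonoidHom) ↔ a ∈ supportA M := by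
  by_cases h : IsTypeI M
  · rw [supportA, supportA, if_pos h, if_pos ((isOfTypeI_map_iff α M).2 h), fittingHallOf_map]
    simp only [Set.mem_ofPred_eq]
    refine and_congr (by simp) (and_congr (by simp) ⟨?_, ?_⟩)
    · rintro ⟨_, ⟨x, hx, rfl⟩, hx1, hc⟩
      exact ⟨x, hx, fun hh => hx1 (by simp [hh]), α.injective (by simpa using hc)⟩
    · rintro ⟨x, hx, hx1, hc⟩
      exact ⟨α x, ⟨x, hx, rfl⟩, by simpa using hx1, by rw [← map_mul, hc, map_mul]⟩
  · rw [supportA, supportA, if_neg h, if_neg fun hc => h ((isOfTypeI_map_iff α M).1 hc), typeCore_map,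
      commutator_map]
    simp only [Set.mem_ofPred_eq]
    refine and_congr (by simp) (and_congr (by simp) ⟨?_, ?_⟩)
    · rintro ⟨_, ⟨x, hx, rfl⟩, hx1, hc⟩
      exact ⟨x, hx, fun hh => hx1 (by simp [hh]), α.injective (by simpa using hc)⟩
    · rintro ⟨x, hx, hx1, hc⟩
      exact ⟨α x, ⟨x, hx, rfl⟩, by simpa using hx1, by rw [← map_mul, hc, map_mul]⟩

end Ambient

end CfsgLib.OddOrder
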