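import Cfsg.Agent.OddOrder.PF8.Basic
import Cfsg.Prelude.Def_OddOrderChar

/-!
# The Dade hypothesis for `A₁(M)`, `A(M)`, `A₀(M)` (Peterfalvi (8.15)-(8.16))
-/

set_option autoImplicit false
set_option linter.unusedSectionVars false

namespace CfsgLib.OddOrder

open Cfsg
open Subgroup (centralizer normalizer)

universe u

variable {G : Type u} [Group G]

theorem typeA_subset_typeA0 (M : Subgroup G) : supportA M ⊆ supportA0 M := fun _ h => Or.inl h

theorem typeA0_subset_self (M : Subgroup G) : supportA0 M ⊆ (M : Set G) := by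
  rintro a (ha | ⟨-, W₁, U, W₂, hP, m, hm, w, hw, -, -, rfl⟩)
  · exact typeA_subset_self M ha
  · have hle : W₁ ⊔ W₂ ≤ M := sup_le hP.W₁_compl.2.1 (hP.W₂_le.trans (inf_le_left.trans (fittingHallOf_le M)))
    exact M.mul_mem (M.mul_mem hm (hle hw)) (M.inv_mem hm)

theorem typeA0_ne_one (M : Subgroup G) {a : G} (ha : a ∈ supportA0 M) : a ≠ 1 := by
  rcases ha with ha | ⟨-, W₁, U, W₂, hP, m, hm, w, hw, hw1, -, rfl⟩
  · exact typeA_ne_one M ha
  · intro h
    rw [conj_eq_one_iff] at h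
    exact hw1 (h ▸ W₁.one_mem)

theorem typeA0_conj_mem (M : Subgroup G) {m a : G} (hm : m ∈ M) (ha : a ∈ supportA0 M) :
    m * a * m⁻¹ ∈ supportA0 M := by
  rcases ha with ha | ⟨hI, W₁, U, W₂, hP, m', hm', w, hw, hw1, hw2, rfl⟩
  · exact Or.inl (typeA_conj_mem M hm ha)
  · exact Or.inr ⟨hI, W₁, U, W₂, hP, m * m', M.mul_mem hm hm', w, hw, hw1, hw2, by group⟩

theorem typeA1_conj_mem (M : Subgroup G) {m a : G} (hm : m ∈ M) (ha : a ∈ typeA1 M) :
    m * a * m⁻¹ ∈ typeA1 M :=
  ⟨typeCore_conj_mem M hm ha.1, fun h => ha.2 (conj_eq_one_iff.1 h)⟩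

/-- `R(x)` when `C(x)` lies outside `M`. -/
theorem supportR_eq {M L : Subgroup G} {x : G} (hnot : ¬ centralizer ({x} : Set G) ≤ M)
    (hu : ∃! L : Subgroup G, IsCoatom L ∧ centralizer ({x} : Set G) ≤ L) (hL : IsCoatom L)
    (hxL : centralizer ({x} : Set G) ≤ L) :
    supportR M x = fittingHallOf L ⊓ centralizer ({x} : Set G) := by
  rw [supportR, dif_pos ⟨hnot, hu⟩]
  rw [hu.unique (Classical.choose_spec hu.exists) ⟨hL, hxL⟩]

theorem supportR_eq_bot {M : Subgroup G} {x : G} (h : centralizer ({x} : Set G) ≤ M) :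
    supportR M x = ⊥ := by
  rw [supportR, dif_neg fun hc => hc.1 h]

namespace BG16Facts

variable [Finite G] (F : BG16Facts G) {M : Subgroup G}
include F

theorem subsets {A : Set G} (hM : IsCoatom M) (hA : A = typeA1 M ∨ A = supportA M ∨ A = supportA0 M) :
    A ⊆ supportA0 M ∧ typeA1 M ⊆ A ∧ ∀ m ∈ M, ∀ a ∈ A, m * a * m⁻¹ ∈ A := by
  rcases hA with rfl | rfl | rfl
  · exact ⟨(F.typeA1_subset_typeA hM).trans (typeA_subset_typeA0 M), subset_rfl,
      fun m hm a => typeA1_conj_mem M hm⟩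
  · exact ⟨typeA_subset_typeA0 M, F.typeA1_subset_typeA hM, fun m hm a => typeA_conj_mem M hm⟩
  · exact ⟨subset_rfl, (F.typeA1_subset_typeA hM).trans (typeA_subset_typeA0 M),
      fun m hm a => typeA0_conj_mem M hm⟩

/-- The normaliser of each of the three sets is `M`. -/
theorem normalizer_eq (hG : IsMinSimpleOddOrder G) (hM : IsCoatom M) {A : Set G}
    (hA : A = typeA1 M ∨ A = supportA M ∨ A = supportA0 M) : normalizer A = M := by
  obtain ⟨hsub, hA1, hconj⟩ := F.subsets hM hA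
  have hAM : A ⊆ (M : Set G) := hsub.trans (typeA0_subset_self M)
  have hle : M ≤ normalizer A := by
    intro m hm x
    refine ⟨hconj m hm x, fun hx => ?_⟩
    have := hconj m⁻¹ (M.inv_mem hm) _ hx
    simpa [mul_assoc] using this
  refine (hM.le_iff.1 hle).resolve_left fun htop => ?_
  obtain ⟨x, hx⟩ := F.typeA1_nonempty hM
  have hn : (Subgroup.closure A).Normal := by
    constructor
    intro a ha g
    induction ha using Subgroup.closure_induction with
    | mem a ha =>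
      exact Subgroup.subset_closure (((htop ▸ Subgroup.mem_top g : g ∈ normalizer A) a).1 ha)
    | one => simp
    | mul a b _ _ iha ihb =>
      have := Subgroup.mul_mem _ iha ihb
      simpa [mul_assoc] using this
    | inv a _ ih =>
      have := Subgroup.inv_mem _ ih
      simpa [mul_assoc] using this
  have hcl : Subgroup.closure A ≤ M := (Subgroup.closure_le M).2 hAM
  rcases minSimple_normal_eq_bot_or_top hG hn with h | h
  · exact typeA0_ne_one M (hsub (hA1 hx))
      ((Subgroup.eq_bot_iff_forall _).1 h x (Subgroup.subset_closure (hA1 hx)))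
  · exact hM.1 (top_le_iff.1 (h ▸ hcl))

theorem fusion_mem (hM : IsCoatom M) {A : Set G} (hA : A = typeA1 M ∨ A = supportA M ∨ A = supportA0 M)
    {x : G} (hx : x ∈ A) (g : G) (hg : g * x * g⁻¹ ∈ A) :
    ∃ m ∈ M, m * x * m⁻¹ = g * x * g⁻¹ :=
  let hsub := (F.subsets hM hA).1
  (F.theoremII M (supportA0 M) hM (Or.inr rfl)).1 x (hsub hx) g (hsub hg)

/-- Peterfalvi (8.15): the Dade hypothesis. -/
theorem dade (hM : IsCoatom M) {A : Set G} (hA : A = typeA1 M ∨ A = supportA M ∨ A = supportA0 M) :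
    DadeHypothesis A M (supportR M) := by
  obtain ⟨hsub, -, hconj⟩ := F.subsets hM hA
  obtain ⟨-, hD, hDL⟩ := F.theoremII M (supportA0 M) hM (Or.inr rfl)
  refine ⟨fun h => typeA0_ne_one M (hsub h) rfl, hsub.trans (typeA0_subset_self M), hconj,
    fun a ha g => F.fusion_mem hM hA ha g, ?_, ?_, ?_, ?_, ?_⟩
  all_goals intro a ha
  all_goals by_cases hC : centralizer ({a} : Set G) ≤ M
  · rw [supportR_eq_bot hC]; exact bot_le
  · obtain ⟨L, ⟨hL, hxL⟩, -⟩ := (hD a (hsub ha) hC).2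
    rw [supportR_eq hC (hD a (hsub ha) hC).2 hL hxL]
    exact inf_le_right
  · intro c hc u hu
    rw [supportR_eq_bot hC, Subgroup.mem_bot] at hu ⊢
    simp [hu]
  · obtain ⟨L, ⟨hL, hxL⟩, -⟩ := (hD a (hsub ha) hC).2
    rw [supportR_eq hC (hD a (hsub ha) hC).2 hL hxL]
    intro c hc u hu
    exact (Subgroup.mem_normalizer_iff.1 ((hDL a (hsub ha) hC L hL hxL).2.1 hc) u).1 hu
  · rw [supportR_eq_bot hC, bot_inf_eq]
  · obtain ⟨L, ⟨hL, hxL⟩, -⟩ := (hD a (hsub ha) hC).2
    rw [supportR_eq hC (hD a (hsub ha) hC).2 hL hxL]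
    exact (hDL a (hsub ha) hC L hL hxL).2.2.1.2.2.1
  · rw [supportR_eq_bot hC, bot_sup_eq, inf_eq_right.2 hC]
  · obtain ⟨L, ⟨hL, hxL⟩, -⟩ := (hD a (hsub ha) hC).2
    rw [supportR_eq hC (hD a (hsub ha) hC).2 hL hxL]
    refine le_antisymm (sup_le inf_le_right inf_le_right) fun c hc => ?_
    obtain ⟨p, hp, q, hq, rfl⟩ := (hDL a (hsub ha) hC L hL hxL).2.2.1.2.2.2 c hc
    exact Subgroup.mul_mem_sup hp hq
  · intro b hb
    rw [supportR_eq_bot hC]
    simp
  · intro b hb
    obtain ⟨L, ⟨hL, hxL⟩, -⟩ := (hD a (hsub ha) hC).2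
    rw [supportR_eq hC (hD a (hsub ha) hC).2 hL hxL]
    exact ((hDL a (hsub ha) hC L hL hxL).2.2.2.1 b (hsub hb)).coprime_dvd_left
      (Subgroup.card_dvd_of_le inf_le_left)

/-- For Type II every centraliser of an element of `A₀(M)` lies in `M`. -/
theorem typeII_centralizer_le (hG : IsMinSimpleOddOrder G) (hM : IsCoatom M) (hII : IsOfTypeII M)
    {x : G} (hx : x ∈ supportA0 M) : centralizer ({x} : Set G) ≤ M := by
  by_contra hC
  obtain ⟨hx1, -⟩ := (F.theoremII M (supportA0 M) hM (Or.inr rfl)).2.1 x hx hC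
  obtain ⟨hxc, hxne⟩ := hx1
  rw [SetLike.mem_coe, F.core_eq hM (Or.inr hII)] at hxc
  have hle : fittingHallOf M ≤ fittingOf M :=
    Subgroup.map_mono (sSup_le_sSup fun N hN => ⟨hN.1, hN.2.1⟩)
  obtain ⟨W₁, U, W₂, hP, hU, hp, hti, -⟩ := hII
  have hn : normalizer (fittingOf M : Set G) = M := by
    refine minSimple_normalizer_eq_coatom_of_le hG hM (fun h => hxne ?_) (Subgroup.map_subtype_le _) ?_
    · exact (Subgroup.eq_bot_iff_forall _).1 h x (hle hxc)
    · intro m hm
      refine map_conj_eq_self_iff.1 ?_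
      rw [← fittingOf_map, map_conj_eq_self_of_mem hm]
  refine hC fun c hc => ?_
  by_contra hcM
  refine hxne (hti c (by rw [hn]; exact hcM) x (hle hxc) ?_)
  rw [comm_mem_centralizer_singleton] at hc
  rw [show c * x * c⁻¹ = x by rw [hc, mul_inv_cancel_right]]
  exact hle hxc

/-- Peterfalvi (8.16): for Type II the three sets are TI with normaliser `M`. -/
theorem typeII_ti (hG : IsMinSimpleOddOrder G) (hM : IsCoatom M) (hII : IsOfTypeII M) {A : Set G}
    (hA : A = typeA1 M ∨ A = supportA M ∨ A = supportA0 M) : IsTISubset A ∧ normalizer A = M := by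
  refine ⟨fun g hg x hx hgx => absurd ?_ hg, F.normalizer_eq hG hM hA⟩
  rw [F.normalizer_eq hG hM hA]
  obtain ⟨m, hm, hmx⟩ := F.fusion_mem hM hA hx g hgx
  have hc : m⁻¹ * g ∈ centralizer ({x} : Set G) := by
    rw [comm_mem_centralizer_singleton]
    calc m⁻¹ * g * x = m⁻¹ * (g * x * g⁻¹) * g := by group
      _ = m⁻¹ * (m * x * m⁻¹) * g := by rw [hmx]
      _ = x * (m⁻¹ * g) := by group
  have := M.mul_mem hm (F.typeII_centralizer_le hG hM hII ((F.subsets hM hA).1 hx) hc)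
  simpa using this

end BG16Facts

end CfsgLib.OddOrder
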