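import Cfsg.Agent.OddOrder.PF8.Dade

/-!
# Supports of maximal subgroups (Peterfalvi (8.17))
-/

set_option autoImplicit false
set_option linter.unusedSectionVars false

namespace CfsgLib.OddOrder

open Cfsg
open Subgroup (centralizer normalizer)

universe u

variable {G : Type u} [Group G] [Finite G]

namespace BG16Facts

variable (F : BG16Facts G) {S T : Subgroup G}
include F

omit F in
theorem orderOf_coprime_of_mem {x : G} {H K : Subgroup G} (hx : x ∈ H)
    (h : (Nat.card H).Coprime (Nat.card K)) : (orderOf x).Coprime (Nat.card K) :=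
  h.coprime_dvd_left (Subgroup.orderOf_dvd_natCard _ hx)

/-- An element of `A₁(S) ∩ A(T)` has its centraliser in `T` and not in `S`. -/
theorem inter_centralizer (hS : IsCoatom S) (hT : IsCoatom T)
    (hnc : ∀ g : G, T.map (MulAut.conj g).toMonoidHom ≠ S) {x : G} (hx1 : x ∈ typeA1 S)
    (hxA : x ∈ supportA T) :
    ¬ centralizer ({x} : Set G) ≤ S ∧ centralizer ({x} : Set G) ≤ T := by
  obtain ⟨hle, huniq⟩ := F.typeA_coprime_unique hT hxA (orderOf_coprime_of_mem hx1.1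
    (F.coprime_cores hT hS fun g hg => hnc g hg.symm).symm)
  refine ⟨fun h => hnc 1 ?_, hle⟩
  rw [map_conj_one, huniq S hS h]

/-- A supporting subgroup meets `A₁(S)` in its set `A`. -/
theorem supports_spec {L : Subgroup G} (hS : IsCoatom S) (h : IsSupporting L S) :
    ∃ x, x ∈ typeA1 S ∧ x ∈ supportA L ∧ (IsTypeI L ∨ IsOfTypeII L) ∧
      ∀ y ∈ supportA0 S, (Nat.card (fittingHallOf L)).Coprime (Nat.card ↥(S ⊓ centralizer ({y} : Set G))) := by
  obtain ⟨hL, x, hx, hnot, hle⟩ := h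
  obtain ⟨-, h2, h3⟩ := F.theoremII S (supportA0 S) hS (Or.inr rfl)
  obtain ⟨-, -, -, hcop, hAL, htype⟩ := h3 x hx hnot L hL hle
  exact ⟨x, (h2 x hx hnot).1, hAL.1, htype, hcop⟩

theorem supports_iff (hS : IsCoatom S) (hT : IsCoatom T)
    (hnc : ∀ g : G, T.map (MulAut.conj g).toMonoidHom ≠ S) :
    IsSupporting T S ↔ (typeA1 S ∩ supportA T).Nonempty := by
  refine ⟨fun h => ?_, fun ⟨x, hx1, hxA⟩ => ?_⟩
  · obtain ⟨x, hx1, hxA, -⟩ := F.supports_spec hS h
    exact ⟨x, hx1, hxA⟩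
  · exact ⟨hT, x, typeA_subset_typeA0 S (F.typeA1_subset_typeA hS hx1),
      F.inter_centralizer hS hT hnc hx1 hxA⟩

/-- The elements of `R(a)`. -/
theorem supportR_spec {M : Subgroup G} (hM : IsCoatom M) {a r : G} (ha : a ∈ supportA0 M)
    (hr : r ∈ supportR M a) (hr1 : r ≠ 1) :
    a ∈ typeA1 M ∧ Commute a r ∧ (orderOf a).Coprime (orderOf r) ∧
      ∃ L : Subgroup G, IsCoatom L ∧ centralizer ({a} : Set G) ≤ L ∧
        ¬ centralizer ({a} : Set G) ≤ M ∧ r ∈ fittingHallOf L := by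
  by_cases hC : centralizer ({a} : Set G) ≤ M
  · rw [supportR_eq_bot hC] at hr
    exact absurd (Subgroup.mem_bot.1 hr) hr1
  obtain ⟨-, h2, h3⟩ := F.theoremII M (supportA0 M) hM (Or.inr rfl)
  obtain ⟨ha1, hu⟩ := h2 a ha hC
  obtain ⟨L, ⟨hL, haL⟩, -⟩ := hu
  rw [supportR_eq hC (h2 a ha hC).2 hL haL] at hr
  obtain ⟨hrL, hrC⟩ := hr
  obtain ⟨-, -, -, hcop, -⟩ := h3 a ha hC L hL haL
  refine ⟨ha1, (comm_mem_centralizer_singleton.1 hrC).symm, ?_, L, hL, haL, hC, hrL⟩
  exact (((hcop a ha).coprime_dvd_left (Subgroup.orderOf_dvd_natCard _ hrL)).coprime_dvd_right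
    (Subgroup.orderOf_dvd_natCard (M ⊓ centralizer ({a} : Set G))
      ⟨typeA0_subset_self M ha, comm_mem_centralizer_singleton.2 rfl⟩)).symm

omit F in
theorem mem_tildeOf_self {M : Subgroup G} {A : Set G} {x : G} (hx : x ∈ A) : x ∈ tildeOf M A :=
  ⟨x, hx, 1, Subgroup.one_mem _, 1, by simp⟩

/-- An element of `Ã₁(S) ∩ Ã(T)` yields a conjugate of `T` supporting `S`. -/
theorem exists_supports_of_tilde (hS : IsCoatom S) (hT : IsCoatom T)
    (hnc : ∀ g : G, T.map (MulAut.conj g).toMonoidHom ≠ S)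
    (h : (tildeOf S (typeA1 S) ∩ tildeOf T (supportA T)).Nonempty) :
    ∃ g : G, IsSupporting (T.map (MulAut.conj g).toMonoidHom) S := by
  obtain ⟨u, ⟨a, ha, r, hr, y, rfl⟩, b, hb, s, hs, z, hu⟩ := h
  set v := y⁻¹ * z with hv
  have hkey : a * r = (v * b * v⁻¹) * (v * s * v⁻¹) := by
    calc a * r = y⁻¹ * (y * (a * r) * y⁻¹) * y := by group
      _ = y⁻¹ * (z * (b * s) * z⁻¹) * y := by rw [hu]
      _ = _ := by rw [hv]; group
  set T' := T.map (MulAut.conj v).toMonoidHom with hT'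
  have hT'c : IsCoatom T' := isCoatom_map_conj hT v
  have hnc' : ∀ g : G, T'.map (MulAut.conj g).toMonoidHom ≠ S := fun g => by
    rw [hT', map_conj_map_conj]; exact hnc _
  have hb' : v * b * v⁻¹ ∈ supportA T' := (mem_typeA_map (MulAut.conj v) T).2 hb
  have ha1 : a ≠ 1 := ha.2
  have ha0 : a ∈ supportA0 S := typeA_subset_typeA0 S (F.typeA1_subset_typeA hS ha)
  by_cases hs1 : s = 1
  · refine ⟨v, (F.supports_iff hS hT'c hnc').2 ⟨a, ha, typeA_zpowers T' hb' ?_ ha1⟩⟩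
    have hb'' : v * b * v⁻¹ = a * r := by rw [hkey, hs1]; simp
    rw [hb'']
    by_cases hr1 : r = 1
    · simp [hr1]
    obtain ⟨-, hcomm, hcop, -⟩ := F.supportR_spec hS ha0 hr hr1
    obtain ⟨k, hk⟩ := CfsgLib.OddOrderChar.exists_pow_extract hcop
    exact ⟨k, by simpa using hk G a r hcomm (pow_orderOf_eq_one a) (pow_orderOf_eq_one r)⟩
  · obtain ⟨hbA1, hcomm', hcop', -⟩ := F.supportR_spec hT (typeA_subset_typeA0 T hb) hs hs1
    have hb'1 : v * b * v⁻¹ ∈ typeA1 T' := (mem_typeA1_map (MulAut.conj v) T).2 hbA1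
    set b' := v * b * v⁻¹ with hb'def
    obtain ⟨k, hk⟩ := CfsgLib.OddOrderChar.exists_pow_extract hcop'
    have hbk : (a * r) ^ k = b' := by
      rw [hkey, hb'def, show v * b * v⁻¹ * (v * s * v⁻¹) = v * (b * s) * v⁻¹ by group, conj_pow,
        hk G b s hcomm' (pow_orderOf_eq_one b) (pow_orderOf_eq_one s)]
    have hbne : b' ≠ 1 := hb'1.2
    have hcores := F.coprime_cores hT'c hS fun g hg => hnc' g hg.symm
    by_cases hr1 : r = 1
    · rw [hr1, mul_one] at hbk
      exact absurd (orderOf_eq_one_iff.1 (Nat.eq_one_of_dvd_coprimes hcores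
        (Subgroup.orderOf_dvd_natCard _ hb'1.1)
        (Subgroup.orderOf_dvd_natCard _ (hbk ▸ Subgroup.pow_mem _ ha.1 k)))) hbne
    obtain ⟨-, hcomm, -, L, hL, haL, hnot, hrL⟩ := F.supportR_spec hS ha0 hr hr1
    have hak : a ^ k = 1 := by
      have hcop2 : (orderOf (a ^ k)).Coprime (orderOf b') :=
        ((hcores.coprime_dvd_left (Subgroup.orderOf_dvd_natCard _ hb'1.1)).coprime_dvd_right
          (Subgroup.orderOf_dvd_natCard _ (Subgroup.pow_mem _ ha.1 k))).symm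
      rw [hcomm.mul_pow] at hbk
      have hrk : orderOf (a ^ k) ∣ Nat.lcm (orderOf b') (orderOf r) := by
        refine orderOf_dvd_of_pow_eq_one ?_
        have h1 : a ^ k = b' * (r ^ k)⁻¹ := by rw [← hbk, mul_inv_cancel_right]
        have hc : Commute b' (r ^ k)⁻¹ :=
          (hbk ▸ ((hcomm.pow_pow k k).mul_left (Commute.refl _)) : Commute b' (r ^ k)).inv_right
        rw [h1, hc.mul_pow, inv_pow, orderOf_dvd_iff_pow_eq_one.1 (Nat.dvd_lcm_left _ _), ← pow_mul,
          mul_comm, pow_mul, orderOf_dvd_iff_pow_eq_one.1 (Nat.dvd_lcm_right _ _), one_pow, inv_one,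
          one_mul]
      obtain ⟨-, -, hcop3, -⟩ := F.supportR_spec hS ha0 hr hr1
      have hcop4 : (orderOf (a ^ k)).Coprime (orderOf r) :=
        hcop3.coprime_dvd_left (orderOf_pow_dvd k)
      exact orderOf_eq_one_iff.1 (Nat.eq_one_of_dvd_coprimes (hcop2.mul_right hcop4) dvd_rfl
        (hrk.trans (Nat.lcm_dvd_mul _ _)))
    have hbL : b' ∈ fittingHallOf L := by
      rw [← hbk, hcomm.mul_pow, hak, one_mul]
      exact Subgroup.pow_mem _ hrL k
    obtain ⟨p, hp, hpd⟩ := Nat.exists_prime_and_dvd (mt orderOf_eq_one_iff.1 hbne)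
    obtain ⟨g, rfl⟩ := F.conj_of_dvd_cores hT'c hL hp
      (hpd.trans (Subgroup.orderOf_dvd_natCard _ hb'1.1))
      (hpd.trans (Subgroup.orderOf_dvd_natCard _ (fittingHallOf_le_core L hbL)))
    refine ⟨g * v, ?_⟩
    rw [← map_conj_map_conj]
    exact ⟨hL, a, ha0, hnot, haL⟩

theorem tilde_iff (hS : IsCoatom S) (hT : IsCoatom T)
    (hnc : ∀ g : G, T.map (MulAut.conj g).toMonoidHom ≠ S) :
    (∃ g : G, IsSupporting (T.map (MulAut.conj g).toMonoidHom) S) ↔
      (tildeOf S (typeA1 S) ∩ tildeOf T (supportA T)).Nonempty := by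
  refine ⟨fun ⟨g, hg⟩ => ?_, F.exists_supports_of_tilde hS hT hnc⟩
  obtain ⟨x, hx1, hxA, -⟩ := F.supports_spec hS hg
  have hy : g⁻¹ * x * g ∈ supportA T :=
    (mem_typeA_map (MulAut.conj g) T).1 (by simpa [mul_assoc] using hxA)
  exact ⟨x, mem_tildeOf_self hx1, g⁻¹ * x * g, hy, 1, Subgroup.one_mem _, g, by group⟩

/-- Two maximal subgroups do not have conjugates supporting each other. -/
theorem not_both (hS : IsCoatom S) (hT : IsCoatom T) {g h : G}
    (hTS : IsSupporting (T.map (MulAut.conj g).toMonoidHom) S)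
    (hST : IsSupporting (S.map (MulAut.conj h).toMonoidHom) T) : False := by
  obtain ⟨x, hx1, hxA, -⟩ := F.supports_spec hS hTS
  obtain ⟨-, -, -, htype, hcop⟩ := F.supports_spec hT hST
  have htypeS : IsTypeI S ∨ IsOfTypeII S := by
    have := htype.imp (typeI_map (MulAut.conj h).symm) (typeII_map (MulAut.conj h).symm)
    rwa [map_map_symm] at this
  have hy : g⁻¹ * x * g ∈ supportA T :=
    (mem_typeA_map (MulAut.conj g) T).1 (by simpa [mul_assoc] using hxA)
  have hord : orderOf (g⁻¹ * x * g) = orderOf x := by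
    simpa using MulEquiv.orderOf_eq (MulAut.conj g⁻¹) x
  have h1 : orderOf x ∣ Nat.card (fittingHallOf (S.map (MulAut.conj h).toMonoidHom)) := by
    rw [fittingHallOf_map, equiv_map_card, ← F.core_eq hS htypeS]
    exact Subgroup.orderOf_dvd_natCard _ hx1.1
  have h2 : orderOf x ∣ Nat.card ↥(T ⊓ centralizer ({g⁻¹ * x * g} : Set G)) := by
    rw [← hord]
    exact Subgroup.orderOf_dvd_natCard _
      ⟨typeA_subset_self T hy, comm_mem_centralizer_singleton.2 rfl⟩
  exact hx1.2 (orderOf_eq_one_iff.1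
    (Nat.eq_one_of_dvd_coprimes (hcop _ (typeA_subset_typeA0 T hy)) h1 h2))

/-- Peterfalvi (8.17). -/
theorem supports_main (hS : IsCoatom S) (hT : IsCoatom T)
    (hnc : ∀ g : G, T.map (MulAut.conj g).toMonoidHom ≠ S) :
    (IsSupporting T S ↔ (typeA1 S ∩ supportA T).Nonempty) ∧
      (∀ x ∈ typeA1 S ∩ supportA T,
        ¬ centralizer ({x} : Set G) ≤ S ∧ centralizer ({x} : Set G) ≤ T) ∧
      ((∃ g : G, IsSupporting (T.map (MulAut.conj g).toMonoidHom) S) ↔
        (tildeOf S (typeA1 S) ∩ tildeOf T (supportA T)).Nonempty) ∧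
      (tildeOf S (typeA1 S) ∩ tildeOf T (supportA T) = ∅ ∨
        tildeOf T (typeA1 T) ∩ tildeOf S (supportA S) = ∅) := by
  refine ⟨F.supports_iff hS hT hnc, fun x hx => F.inter_centralizer hS hT hnc hx.1 hx.2,
    F.tilde_iff hS hT hnc, ?_⟩
  by_contra hne
  simp only [not_or, ← Ne.eq_def, ← Set.nonempty_iff_ne_empty] at hne
  have hnc' : ∀ g : G, S.map (MulAut.conj g).toMonoidHom ≠ T := by
    intro g hg
    apply hnc g⁻¹
    rw [← hg, map_conj_map_conj, inv_mul_cancel, map_conj_one]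
  obtain ⟨g, hg⟩ := (F.tilde_iff hS hT hnc).2 hne.1
  obtain ⟨h, hh⟩ := (F.tilde_iff hT hS hnc').2 hne.2
  exact F.not_both hS hT hg hh

end BG16Facts

end CfsgLib.OddOrder
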